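import Groth.Agent.TMul.RelAmpleOps
import Groth.Agent.FinFibImage.Main
import Mathlib.AlgebraicGeometry.Limits

/-!
# Relative ampleness on a coproduct of two schemes
-/

set_option autoImplicit false
set_option backward.isDefEq.respectTransparency false
set_option backward.isDefEq.respectTransparency.types false
set_option linter.style.haveILetI false

universe u

open CategoryTheory CategoryTheory.Limits AlgebraicGeometry TopologicalSpace

noncomputable section

namespace Groth.Agent.CoprodAmple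

variable {X X' Y : Scheme.{u}} (f : X ⟶ Y) (f' : X' ⟶ Y)

lemma preimage_desc (V : Set Y) :
    (coprod.desc f f').base ⁻¹' V =
      (coprod.inl : X ⟶ X ⨿ X').base '' (f.base ⁻¹' V) ∪ (coprod.inr : X' ⟶ X ⨿ X').base '' (f'.base ⁻¹' V) := by
  ext c
  constructor
  · intro hc
    rcases (isCompl_range_inl_inr X X').sup_eq_top.ge (Set.mem_univ c) with ⟨x, rfl⟩ | ⟨x, rfl⟩
    · exact Or.inl ⟨x, by
        show f.base x ∈ V
        have h : (coprod.inl ≫ coprod.desc f f' : X ⟶ Y).base x ∈ V := hc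
        rwa [coprod.inl_desc] at h, rfl⟩
    · exact Or.inr ⟨x, by
        show f'.base x ∈ V
        have h : (coprod.inr ≫ coprod.desc f f' : X' ⟶ Y).base x ∈ V := hc
        rwa [coprod.inr_desc] at h, rfl⟩
  · rintro (⟨x, hx, rfl⟩ | ⟨x, hx, rfl⟩)
    · show (coprod.inl ≫ coprod.desc f f' : X ⟶ Y).base x ∈ V
      rwa [coprod.inl_desc]
    · show (coprod.inr ≫ coprod.desc f f' : X' ⟶ Y).base x ∈ V
      rwa [coprod.inr_desc]

theorem quasiCompact_desc [QuasiCompact f] [QuasiCompact f'] : QuasiCompact (coprod.desc f f') :=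
  ⟨fun V hV hVc => by
    rw [preimage_desc]
    exact ((QuasiCompact.isCompact_preimage (f := f) V hV hVc).image (Scheme.Hom.continuous _)).union
      ((QuasiCompact.isCompact_preimage (f := f') V hV hVc).image (Scheme.Hom.continuous _))⟩

/-- Ampleness on a preimage transported along an open immersion. -/
theorem isAmple_image_iff {Z C : Scheme.{u}} (j : Z ⟶ C) [IsOpenImmersion j] (L : C.Modules) (U : Z.Opens) :
    CohB1.IsAmple (L.restrict (j ''ᵁ U).ι) ↔ CohB1.IsAmple (((Scheme.Modules.pullback j).obj L).restrict U.ι) := by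
  rw [TMul.isAmple_range_iff (U.ι ≫ j) (by rw [Scheme.Hom.opensRange_comp, Scheme.Opens.opensRange_ι])]
  obtain ⟨e⟩ := TMul.nonempty_restrictRestrictIso j U.ι (U.ι ≫ j) rfl L
  let e' := e.symm ≪≫ (Scheme.Modules.restrictFunctor U.ι).mapIso
    ((Scheme.Modules.restrictFunctorIsoPullback j).app L)
  exact ⟨fun h => TMul.isAmple_congr e' h, fun h => TMul.isAmple_congr e'.symm h⟩

/-- Relative ampleness on a coproduct is tested on the summands. -/
theorem isRelAmple_desc_iff [QuasiCompact f] [QuasiCompact f'] (L : (X ⨿ X').Modules)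
    (hL : PicF.IsInvertible L) :
    RelAmple.IsRelAmple (coprod.desc f f') L ↔
      RelAmple.IsRelAmple f ((Scheme.Modules.pullback (coprod.inl : X ⟶ X ⨿ X')).obj L) ∧
        RelAmple.IsRelAmple f' ((Scheme.Modules.pullback (coprod.inr : X' ⟶ X ⨿ X')).obj L) := by
  haveI := quasiCompact_desc f f'
  constructor
  · intro h
    have key : ∀ {Z : Scheme.{u}} (j : Z ⟶ X ⨿ X') [IsOpenImmersion j] (g : Z ⟶ Y) [QuasiCompact g],
        j ≫ coprod.desc f f' = g → RelAmple.IsRelAmple g ((Scheme.Modules.pullback j).obj L) := by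
      intro Z j _ g _ hg
      subst hg
      refine TMul.isRelAmple_of_exists (PicLoc.isInvertible_pullback _ hL) fun y => ?_
      obtain ⟨V, hV, hyV, -⟩ := exists_isAffineOpen_mem_and_subset (x := y) (U := (⊤ : Y.Opens)) trivial
      refine ⟨V, hyV, (isAmple_image_iff j L _).1 (TMul.isAmple_restrict_of_le ?_ ?_ (h.2 ⟨V, hV⟩))⟩
      · rintro _ ⟨z, hz, rfl⟩; exact hz
      · exact ((Scheme.Hom.isCompact_preimage (j ≫ coprod.desc f f') hV.isCompact).image j.continuous)
    exact ⟨key coprod.inl f (coprod.inl_desc _ _), key coprod.inr f' (coprod.inr_desc _ _)⟩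
  · rintro ⟨h, h'⟩
    refine TMul.isRelAmple_of_exists hL fun y => ?_
    obtain ⟨V, hV, hyV, -⟩ := exists_isAffineOpen_mem_and_subset (x := y) (U := (⊤ : Y.Opens)) trivial
    refine ⟨V, hyV, ?_⟩
    set W := coprod.desc f f' ⁻¹ᵁ V with hWdef
    haveI : CompactSpace W.toScheme :=
      isCompact_iff_compactSpace.mp ((coprod.desc f f').isCompact_preimage hV.isCompact)
    have hA : IsClopen (W.ι.base ⁻¹' Set.range (coprod.inl : X ⟶ X ⨿ X').base) := by
      refine ⟨⟨?_⟩, (coprod.inl : X ⟶ X ⨿ X').opensRange.2.preimage W.ι.continuous⟩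
      rw [← Set.preimage_compl, (isCompl_range_inl_inr X X').compl_eq]
      exact (coprod.inr : X' ⟶ X ⨿ X').opensRange.2.preimage W.ι.continuous
    obtain ⟨e, -, he⟩ := FinFibImage.exists_idem_of_isClopen _ hA
    obtain ⟨e', -, he'⟩ := FinFibImage.exists_idem_of_isClopen _ hA.compl
    have piece : ∀ (D : W.toScheme.Opens) {Z : Scheme.{u}} (j : Z ⟶ X ⨿ X') [IsOpenImmersion j] (g : Z ⟶ Y),
        j ≫ coprod.desc f f' = g → (D : Set W.toScheme) = W.ι.base ⁻¹' Set.range j.base →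
        RelAmple.IsRelAmple g ((Scheme.Modules.pullback j).obj L) →
        CohB1.IsAmple ((L.restrict W.ι).restrict D.ι) := by
      intro D Z j _ g hg hD hg'
      subst hg
      have h1 := (isAmple_image_iff j L _).2 (hg'.2 ⟨V, hV⟩)
      have hUD : (D.ι ≫ W.ι).opensRange = j ''ᵁ ((j ≫ coprod.desc f f') ⁻¹ᵁ V) := by
        apply SetLike.coe_injective
        rw [Scheme.Hom.opensRange_comp, Scheme.Opens.opensRange_ι]
        ext c
        constructor
        · rintro ⟨w, hw, rfl⟩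
          obtain ⟨z, hz⟩ := (Set.ext_iff.1 hD w).1 hw
          refine ⟨z, ?_, hz⟩
          show (coprod.desc f f').base (j.base z) ∈ V
          rw [hz]
          exact w.2
        · rintro ⟨z, hz, rfl⟩
          exact ⟨⟨j.base z, hz⟩, (Set.ext_iff.1 hD _).2 ⟨z, rfl⟩, rfl⟩
      have h2 := (TMul.isAmple_range_iff (D.ι ≫ W.ι) hUD).1 h1
      obtain ⟨i⟩ := TMul.nonempty_restrictRestrictIso W.ι D.ι (D.ι ≫ W.ι) rfl L
      exact TMul.isAmple_congr i.symm h2
    refine TMul.isAmple_of_cover (TMul.isInvertible_restrict _ hL) (fun b : Bool => bif b then e else e')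
      (fun w => ?_) fun b => ?_
    · by_cases hw : w ∈ W.ι.base ⁻¹' Set.range (coprod.inl : X ⟶ X ⨿ X').base
      · exact ⟨true, he.ge hw⟩
      · exact ⟨false, he'.ge hw⟩
    · cases b
      · exact piece _ coprod.inr f' (coprod.inr_desc _ _)
          (he'.trans (by rw [← Set.preimage_compl, (isCompl_range_inl_inr X X').compl_eq])) h'
      · exact piece _ coprod.inl f (coprod.inl_desc _ _) he h

theorem isInvertible_of_pullback {L : (X ⨿ X').Modules}
    (hL : PicF.IsInvertible ((Scheme.Modules.pullback (coprod.inl : X ⟶ X ⨿ X')).obj L))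
    (hL' : PicF.IsInvertible ((Scheme.Modules.pullback (coprod.inr : X' ⟶ X ⨿ X')).obj L)) :
    PicF.IsInvertible L := by
  have key : ∀ {Z : Scheme.{u}} (j : Z ⟶ X ⨿ X') [IsOpenImmersion j],
      PicF.IsInvertible ((Scheme.Modules.pullback j).obj L) → ∀ z : Z,
      ∃ U : (X ⨿ X').Opens, j.base z ∈ U ∧ Nonempty (L.restrict U.ι ≅ Coh.structureModule U) := by
    intro Z j _ hj z
    obtain ⟨U, hzU, ⟨φ⟩⟩ := hj z
    refine ⟨j ''ᵁ U, ⟨z, hzU, rfl⟩, ?_⟩
    let k : (j ''ᵁ U).toScheme ⟶ U.toScheme := IsOpenImmersion.lift (U.ι ≫ j) (j ''ᵁ U).ι (by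
      rw [Scheme.Opens.range_ι]
      rintro _ ⟨w, hw, rfl⟩
      exact ⟨⟨w, hw⟩, rfl⟩)
    have hk : k ≫ U.ι ≫ j = (j ''ᵁ U).ι := IsOpenImmersion.lift_fac _ _ _
    haveI : IsOpenImmersion k := by
      haveI : IsOpenImmersion (k ≫ U.ι ≫ j) := hk ▸ inferInstance
      exact .of_comp k (U.ι ≫ j)
    obtain ⟨e₁⟩ := TMul.nonempty_restrictRestrictIso j U.ι (U.ι ≫ j) rfl L
    obtain ⟨e₂⟩ := TMul.nonempty_restrictRestrictIso (U.ι ≫ j) k (j ''ᵁ U).ι hk L
    exact ⟨e₂.symm ≪≫ (Scheme.Modules.restrictFunctor k).mapIso (e₁.symm ≪≫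
      (Scheme.Modules.restrictFunctor U.ι).mapIso ((Scheme.Modules.restrictFunctorIsoPullback j).app L) ≪≫ φ) ≪≫
      Scheme.Modules.restrictUnitIso k⟩
  intro c
  rcases (isCompl_range_inl_inr X X').sup_eq_top.ge (Set.mem_univ c) with ⟨x, rfl⟩ | ⟨x, rfl⟩
  · exact key coprod.inl hL x
  · exact key coprod.inr hL' x

/-- A module on the coproduct with prescribed restrictions. -/
theorem exists_glue (L : X.Modules) (L' : X'.Modules) :
    ∃ L'' : (X ⨿ X').Modules,
      Nonempty ((Scheme.Modules.pullback (coprod.inl : X ⟶ X ⨿ X')).obj L'' ≅ L) ∧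
        Nonempty ((Scheme.Modules.pullback (coprod.inr : X' ⟶ X ⨿ X')).obj L'' ≅ L') := by
  have hz : ∀ {A B : Scheme.{u}} (i : A ⟶ X ⨿ X') (k : B ⟶ X ⨿ X') [IsOpenImmersion i] [IsOpenImmersion k],
      Disjoint (Set.range i.base) (Set.range k.base) → ∀ M : B.Modules,
        IsZero ((Scheme.Modules.restrictFunctor i).obj ((Scheme.Modules.pushforward k).obj M)) := by
    intro A B i k _ _ hd M
    rw [IsZero.iff_id_eq_zero]
    refine Scheme.Modules.hom_ext _ _ fun W => ?_
    ext s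
    refine Groth.Agent.QC.section_eq_of_locally (M := M) fun y hy => ?_
    obtain ⟨w, -, hw⟩ := hy
    exact absurd ⟨w, hw⟩ (fun h => hd.le_bot ⟨h, y, rfl⟩)
  have hd := (isCompl_range_inl_inr X X').disjoint
  let M₁ := (Scheme.Modules.pushforward (coprod.inl : X ⟶ X ⨿ X')).obj L
  let M₂ := (Scheme.Modules.pushforward (coprod.inr : X' ⟶ X ⨿ X')).obj L'
  haveI := @preservesBinaryBiproducts_of_preservesBinaryCoproducts
  refine ⟨M₁ ⊞ M₂, ⟨((Scheme.Modules.restrictFunctorIsoPullback _).app _).symm ≪≫ ?_⟩,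
    ⟨((Scheme.Modules.restrictFunctorIsoPullback _).app _).symm ≪≫ ?_⟩⟩
  · haveI : PreservesBinaryBiproduct M₁ M₂ (Scheme.Modules.restrictFunctor (coprod.inl : X ⟶ X ⨿ X')) :=
      preservesBinaryBiproduct_of_preservesBinaryCoproduct _
    exact (Scheme.Modules.restrictFunctor _).mapBiprod M₁ M₂ ≪≫
      (isoBiprodZero (hz _ coprod.inr hd L')).symm ≪≫ (Scheme.Modules.restrictFunctorAdjCounitIso _).app L
  · haveI : PreservesBinaryBiproduct M₁ M₂ (Scheme.Modules.restrictFunctor (coprod.inr : X' ⟶ X ⨿ X')) :=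
      preservesBinaryBiproduct_of_preservesBinaryCoproduct _
    exact (Scheme.Modules.restrictFunctor _).mapBiprod M₁ M₂ ≪≫
      (isoZeroBiprod (hz _ coprod.inl hd.symm L)).symm ≪≫ (Scheme.Modules.restrictFunctorAdjCounitIso _).app L'

end Groth.Agent.CoprodAmple
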